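import Mathlib

/-!
# Job piece DO-HB1 (poster helper22, S0960 + S4441): `tr_approx_idem`

An endomorphism of a lattice that is idempotent modulo `p ^ k` has trace congruent modulo `p ^ k`
to the `F_p`-rank of its reduction modulo `p`.
-/

set_option autoImplicit false

namespace Cfsg.Agent.Lib.Lead.DOHB1

open LinearMap

/-- `ZMod (p ^ k)` is a local ring for `k ≥ 1`. -/
theorem isLocalRing_zmod_prime_pow (p : ℕ) [Fact p.Prime] (k : ℕ) (hk : 1 ≤ k) :
    IsLocalRing (ZMod (p ^ k)) := by
  have hp : p.Prime := Fact.out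
  have : NeZero (p ^ k) := ⟨pow_ne_zero _ hp.ne_zero⟩
  have : Fact (1 < p ^ k) := ⟨Nat.one_lt_pow (by omega) hp.one_lt⟩
  have key : ∀ a : ZMod (p ^ k), a ∈ nonunits (ZMod (p ^ k)) ↔ p ∣ a.val := by
    intro a
    rw [mem_nonunits_iff]
    conv_lhs => rw [← ZMod.natCast_zmod_val a]
    rw [ZMod.isUnit_iff_coprime, Nat.coprime_pow_right_iff (by omega), Nat.coprime_comm,
      hp.coprime_iff_not_dvd, not_not]
  refine IsLocalRing.of_nonunits_add ?_
  intro a b ha hb
  rw [key] at ha hb
  rw [mem_nonunits_iff]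
  have hab : a + b = ((a.val + b.val : ℕ) : ZMod (p ^ k)) := by
    push_cast
    rw [ZMod.natCast_zmod_val, ZMod.natCast_zmod_val]
  rw [hab, ZMod.isUnit_iff_coprime, Nat.coprime_pow_right_iff (by omega), Nat.coprime_comm,
    hp.coprime_iff_not_dvd, not_not]
  exact dvd_add ha hb

/-- Characteristic polynomial of a projection with free finite range and kernel. -/
theorem charpoly_isProj {R M : Type*} [CommRing R] [Nontrivial R] [AddCommGroup M] [Module R M]
    [Module.Free R M] [Module.Finite R M]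
    {N : Submodule R M} {f : M →ₗ[R] M} (h : IsProj N f) [Module.Free R N] [Module.Finite R N]
    [Module.Free R (ker f)] [Module.Finite R (ker f)] :
    f.charpoly =
      (Polynomial.X - 1) ^ Module.finrank R N * Polynomial.X ^ Module.finrank R (ker f) := by
  have h1 : f.charpoly =
      ((N.prodEquivOfIsCompl (ker f) h.isCompl).conj (prodMap id 0)).charpoly :=
    congrArg LinearMap.charpoly h.eq_conj_prodMap
  rw [h1, LinearEquiv.charpoly_conj, charpoly_prodMap, charpoly_zero]
  congr 1
  exact charpoly_one (R := R) (M := N)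

/-- Root multiplicity of `1` in `(X - 1) ^ m * X ^ a` over a field. -/
theorem rootMult_aux {F : Type*} [Field F] (m a : ℕ) :
    Polynomial.rootMultiplicity (1 : F)
      ((Polynomial.X - 1) ^ m * Polynomial.X ^ a : Polynomial F) = m := by
  have hX : (Polynomial.X ^ a : Polynomial F) ≠ 0 := pow_ne_zero _ Polynomial.X_ne_zero
  have hX1 : ((Polynomial.X - 1 : Polynomial F)) = Polynomial.X - Polynomial.C 1 := by simp
  have hne : ((Polynomial.X - 1) ^ m * Polynomial.X ^ a : Polynomial F) ≠ 0 := by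
    rw [hX1]
    exact mul_ne_zero (pow_ne_zero _ (Polynomial.X_sub_C_ne_zero 1)) hX
  rw [Polynomial.rootMultiplicity_mul hne, hX1, Polynomial.rootMultiplicity_X_sub_C_pow]
  have : Polynomial.rootMultiplicity (1 : F) (Polynomial.X ^ a : Polynomial F) = 0 := by
    apply Polynomial.rootMultiplicity_eq_zero
    simp [Polynomial.IsRoot]
  omega

variable {X : Type*} [AddCommGroup X] [Module.Free ℤ X] [Module.Finite ℤ X]

omit [Module.Free ℤ X] [Module.Finite ℤ X] in
/-- Reduction of an "idempotent modulo `p ^ k`" is idempotent over any `ℤ`-algebra killed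
by `p ^ k`. -/
theorem baseChange_idem (p k : ℕ) (A : Type*) [CommRing A] (hA : ((p : ℤ) ^ k : ℤ) • (1 : A) = 0)
    (lam mu : X →ₗ[ℤ] X) (hidem : lam ∘ₗ lam - lam = ((p : ℤ) ^ k) • mu) :
    lam.baseChange A ∘ₗ lam.baseChange A = lam.baseChange A := by
  have h1 := congrArg (LinearMap.baseChange A) hidem
  rw [baseChange_sub, baseChange_comp, baseChange_smul] at h1
  have h2 : ((p : ℤ) ^ k) • (mu.baseChange A) = 0 := by
    have : ((p : ℤ) ^ k) • (mu.baseChange A) = (((p : ℤ) ^ k) • (1 : A)) • (mu.baseChange A) := by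
      rw [smul_assoc, one_smul]
    rw [this, hA, zero_smul]
  rw [h2] at h1
  exact sub_eq_zero.mp h1

theorem tr_approx_idem (p : ℕ) [Fact p.Prime] (k : ℕ) (hk : 1 ≤ k) (lam mu : X →ₗ[ℤ] X)
    (hidem : lam ∘ₗ lam - lam = ((p : ℤ) ^ k) • mu) :
    LinearMap.trace ℤ X lam ≡
      (Module.finrank (ZMod p) (LinearMap.range (lam.baseChange (ZMod p))) : ℤ)
        [ZMOD (p : ℤ) ^ k] := by
  classical
  have hp : p.Prime := Fact.out
  have : NeZero (p ^ k) := ⟨pow_ne_zero _ hp.ne_zero⟩
  have : Fact (1 < p ^ k) := ⟨Nat.one_lt_pow (by omega) hp.one_lt⟩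
  have : IsLocalRing (ZMod (p ^ k)) := isLocalRing_zmod_prime_pow p k hk
  -- the reduction modulo `p ^ k`
  have hzeroR : ((p : ℤ) ^ k : ℤ) • (1 : ZMod (p ^ k)) = 0 := by
    rw [zsmul_eq_mul, mul_one]
    have : ((p ^ k : ℕ) : ZMod (p ^ k)) = 0 := ZMod.natCast_self _
    push_cast at this ⊢
    exact this
  have hzeroF : ((p : ℤ) ^ k : ℤ) • (1 : ZMod p) = 0 := by
    rw [zsmul_eq_mul, mul_one]
    push_cast
    rw [ZMod.natCast_self, zero_pow (by omega)]
  obtain ⟨e, he_def⟩ : ∃ e : TensorProduct ℤ (ZMod (p ^ k)) X →ₗ[ZMod (p ^ k)]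
      TensorProduct ℤ (ZMod (p ^ k)) X, e = lam.baseChange (ZMod (p ^ k)) := ⟨_, rfl⟩
  obtain ⟨eF, heF_def⟩ : ∃ eF : TensorProduct ℤ (ZMod p) X →ₗ[ZMod p]
      TensorProduct ℤ (ZMod p) X, eF = lam.baseChange (ZMod p) := ⟨_, rfl⟩
  have he : e ∘ₗ e = e := by
    rw [he_def]; exact baseChange_idem p k _ hzeroR lam mu hidem
  have heF : eF ∘ₗ eF = eF := by
    rw [heF_def]; exact baseChange_idem p k _ hzeroF lam mu hidem
  have hproj : IsProj (range e) e := IsIdempotentElem.isProj_range e he
  have hprojF : IsProj (range eF) eF := IsIdempotentElem.isProj_range eF heF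
  -- freeness of range and kernel over the local ring
  have : Module.Projective (ZMod (p ^ k)) (range e) :=
    Module.Projective.of_split (range e).subtype e.rangeRestrict (by
      ext ⟨y, hy⟩
      obtain ⟨x, rfl⟩ := hy
      simpa using LinearMap.congr_fun he x)
  have : Module.Free (ZMod (p ^ k)) (range e) := Module.free_of_flat_of_isLocalRing
  obtain ⟨f, hf_def⟩ : ∃ f : TensorProduct ℤ (ZMod (p ^ k)) X →ₗ[ZMod (p ^ k)]
      TensorProduct ℤ (ZMod (p ^ k)) X, f = LinearMap.id - e := ⟨_, rfl⟩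
  have hker : ∀ x, f x ∈ ker e := by
    intro x
    rw [hf_def, mem_ker, LinearMap.sub_apply, map_sub, LinearMap.id_apply, sub_eq_zero]
    exact (LinearMap.congr_fun he x).symm
  have hsplit : (f.codRestrict (ker e) hker) ∘ₗ (ker e).subtype = LinearMap.id := by
    ext ⟨y, hy⟩
    rw [mem_ker] at hy
    simp [hf_def, hy]
  have : Module.Projective (ZMod (p ^ k)) (ker e) :=
    Module.Projective.of_split (ker e).subtype _ hsplit
  have : Module.Finite (ZMod (p ^ k)) (ker e) :=
    Module.Finite.of_surjective (f.codRestrict (ker e) hker) (by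
      intro y
      exact ⟨(y : TensorProduct ℤ (ZMod (p ^ k)) X), LinearMap.congr_fun hsplit y⟩)
  have : Module.Free (ZMod (p ^ k)) (ker e) := Module.free_of_flat_of_isLocalRing
  -- trace
  have htr : trace (ZMod (p ^ k)) _ e = (Module.finrank (ZMod (p ^ k)) (range e) : ZMod (p ^ k)) :=
    hproj.trace
  have htr2 : trace (ZMod (p ^ k)) _ e = ((trace ℤ X lam : ℤ) : ZMod (p ^ k)) := by
    rw [he_def, trace_baseChange]; simp
  -- comparison of the two ranks through characteristic polynomials
  have hcp : e.charpoly = (Polynomial.X - 1) ^ Module.finrank (ZMod (p ^ k)) (range e) *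
      Polynomial.X ^ Module.finrank (ZMod (p ^ k)) (ker e) := charpoly_isProj hproj
  have hcpF : eF.charpoly = (Polynomial.X - 1) ^ Module.finrank (ZMod p) (range eF) *
      Polynomial.X ^ Module.finrank (ZMod p) (ker eF) := charpoly_isProj hprojF
  have hdvd : p ∣ p ^ k := dvd_pow_self p (by omega)
  have hmap : Polynomial.map (ZMod.castHom hdvd (ZMod p)) e.charpoly = eF.charpoly := by
    rw [he_def, heF_def, charpoly_baseChange, charpoly_baseChange, Polynomial.map_map]
    congr 1
    exact RingHom.ext_int _ _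
  rw [hcp, hcpF] at hmap
  simp only [Polynomial.map_mul, Polynomial.map_pow, Polynomial.map_sub, Polynomial.map_X,
    Polynomial.map_one] at hmap
  have hrank : Module.finrank (ZMod (p ^ k)) (range e) = Module.finrank (ZMod p) (range eF) := by
    have := congrArg (Polynomial.rootMultiplicity (1 : ZMod p)) hmap
    rwa [rootMult_aux, rootMult_aux] at this
  -- conclusion
  rw [htr2, hrank] at htr
  rw [← heF_def]
  have h3 : ((trace ℤ X lam : ℤ) : ZMod (p ^ k)) =
      (((Module.finrank (ZMod p) (range eF) : ℕ) : ℤ) : ZMod (p ^ k)) := by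
    rw [htr]; simp
  have h4 := (ZMod.intCast_eq_intCast_iff _ _ _).mp h3
  simpa using h4

end Cfsg.Agent.Lib.Lead.DOHB1
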