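import Mathlib
import Cfsg.Agent.Lib.Helper4.CharDecomp
import Cfsg.Agent.Lib.Helper4.CharCore

/-!
# Job piece DO-SD (poster helper22, S0960 + S4441): `sub_dim_dvd`

If all irreducible constituents of a complex representation have degree `d`, then every invariant
subspace has dimension divisible by `d`.
-/

set_option autoImplicit false

namespace Cfsg.Agent.Lib.Lead.DOSD

open Cfsg Cfsg.Agent.Lib.Helper4 Module Representation

variable {G : Type*} [Group G] [Fintype G]

theorem sub_dim_dvd {V : Type*} [AddCommGroup V] [Module ℂ V] [FiniteDimensional ℂ V]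
    (ρ : Representation ℂ G V) (S : Finset (Cfsg.IrrCharacter G)) (a : Cfsg.IrrCharacter G → ℂ)
    (hchar : ∀ g, ρ.character g = ∑ ψ ∈ S, a ψ * (ψ : G → ℂ) g)
    (d : ℕ) (hd : ∀ ψ ∈ S, (ψ : G → ℂ) 1 = (d : ℂ))
    (J : Submodule ℂ V) (hJ : ∀ g, ∀ v ∈ J, ρ g v ∈ J) : d ∣ Module.finrank ℂ J := by
  classical
  have hfin : Finite (IrrCharacter G) := irr_finite
  letI : Fintype (IrrCharacter G) := Fintype.ofFinite _
  obtain ⟨SJ, hSJ⟩ : ∃ SJ : Subrepresentation ρ, SJ.toSubmodule = J :=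
    ⟨⟨J, fun g v hv => hJ g v hv⟩, rfl⟩
  obtain ⟨S', hc⟩ := exists_compl_sub ρ SJ
  obtain ⟨m, hm⟩ := exists_decomp SJ.toRepresentation
  obtain ⟨m', hm'⟩ := exists_decomp S'.toRepresentation
  have hsum : ρ.character =
      ∑ χ : IrrCharacter G, ((m χ + m' χ : ℕ) : ℂ) • (χ : G → ℂ) := by
    funext g
    rw [char_add_of_isCompl ρ SJ S' hc g, hm, hm']
    simp only [Finset.sum_apply, Pi.smul_apply, smul_eq_mul, Nat.cast_add, add_mul,
      Finset.sum_add_distrib]
  have hsum2 : ρ.character =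
      ∑ χ : IrrCharacter G, (if χ ∈ S then a χ else 0) • (χ : G → ℂ) := by
    funext g
    rw [hchar g]
    simp only [Finset.sum_apply, Pi.smul_apply, smul_eq_mul, ite_mul, zero_mul]
    rw [Finset.sum_ite_mem, Finset.univ_inter]
  have hcoef : ∀ χ : IrrCharacter G, ((m χ + m' χ : ℕ) : ℂ) = if χ ∈ S then a χ else 0 := by
    intro χ
    have h1 := classInner_sum_irr (fun χ : IrrCharacter G => ((m χ + m' χ : ℕ) : ℂ)) χ
    have h2 := classInner_sum_irr (fun χ : IrrCharacter G => if χ ∈ S then a χ else 0) χ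
    rw [← hsum] at h1
    rw [← hsum2] at h2
    rw [← h1, ← h2]
  have hzero : ∀ χ : IrrCharacter G, χ ∉ S → m χ = 0 := by
    intro χ hχ
    have h := hcoef χ
    rw [if_neg hχ] at h
    have h' : m χ + m' χ = 0 := by exact_mod_cast h
    omega
  have h1 : SJ.toRepresentation.character 1 = (Module.finrank ℂ J : ℂ) := by
    rw [Representation.char_one, hSJ]
  have h2 : SJ.toRepresentation.character 1 =
      ∑ χ : IrrCharacter G, (m χ : ℂ) * (χ : G → ℂ) 1 := by
    rw [hm]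
    simp only [Finset.sum_apply, Pi.smul_apply, smul_eq_mul]
  have h3 : ∑ χ : IrrCharacter G, (m χ : ℂ) * (χ : G → ℂ) 1 = (d : ℂ) * ∑ χ ∈ S, (m χ : ℂ) := by
    rw [Finset.mul_sum, ← Finset.sum_subset (Finset.subset_univ S)]
    · exact Finset.sum_congr rfl (fun χ hχ => by rw [hd χ hχ]; ring)
    · intro χ _ hχ
      rw [hzero χ hχ]
      simp
  have h4 : (Module.finrank ℂ J : ℂ) = ((d * ∑ χ ∈ S, m χ : ℕ) : ℂ) := by
    rw [← h1, h2, h3]
    push_cast
    rfl
  exact ⟨_, Nat.cast_injective h4⟩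

end Cfsg.Agent.Lib.Lead.DOSD
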