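import Cfsg.Agent.Lib.Helper45.FPDefs

set_option autoImplicit false

namespace Cfsg.Agent.Lib.Lead.FP

open Equiv Cfsg.Agent.Lib.Helper45.FP

/-- ALTNS -/
theorem ALTNS {α : Type*} [Fintype α] [DecidableEq α] (h5 : 5 ≤ Fintype.card α)
    (G : Subgroup (Perm α)) (h : alternatingGroup α ≤ G) : ¬ Group.IsSolvable ↥G := by
  intro hG
  -- the alternating group embeds in G, hence is solvable
  have hA : Group.IsSolvable ↥(alternatingGroup α) :=
    Group.isSolvable_of_isSolvable_injective (f := Subgroup.inclusion h)
      (Subgroup.inclusion_injective h)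
  -- hence the symmetric group is solvable, being an extension by the sign character
  have hS : Group.IsSolvable (Perm α) := by
    refine Group.isSolvable_of_ker_le_range (alternatingGroup α).subtype
      (Equiv.Perm.sign : Perm α →* ℤˣ) ?_
    intro x hx
    rw [MonoidHom.mem_ker] at hx
    rw [Subgroup.range_subtype]
    exact Equiv.Perm.mem_alternatingGroup.mpr hx
  refine Equiv.Perm.not_isSolvable α ?_ hS
  rw [Cardinal.mk_fintype]
  exact_mod_cast h5

end Cfsg.Agent.Lib.Lead.FP
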