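import Cfsg.Agent.Lib.Helper45.FPDefs

set_option autoImplicit false

namespace Cfsg.Agent.Lib.Lead.FP

open Equiv Cfsg.Agent.Lib.Helper45.FP

/-- FIX -/
theorem FIX {α : Type*} [Fintype α] [DecidableEq α] (p : ℕ) [Fact p.Prime] (hp3 : 3 ≤ p)
    (hdvd : p ∣ Fintype.card α) (f : Perm α) (a b : α) (ha : f a = a)
    (hsub : ∀ x, f x = x → x = a ∨ x = b) : ¬ ∃ k : ℕ, orderOf f = p ^ k := by
  rintro ⟨k, hk⟩
  have hpow : f ^ p ^ k = 1 := by rw [← hk]; exact pow_orderOf_eq_one f
  have hmod := Equiv.Perm.card_compl_support_modEq (p := p) (n := k) hpow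
  have hdvd' : p ∣ (f.supportᶜ).card := by
    have h0 : Fintype.card α ≡ 0 [MOD p] := (Nat.modEq_zero_iff_dvd).mpr hdvd
    exact (Nat.modEq_zero_iff_dvd).mp (hmod.trans h0)
  have hsubset : f.supportᶜ ⊆ ({a, b} : Finset α) := by
    intro x hx
    rw [Finset.mem_compl, Equiv.Perm.mem_support, not_not] at hx
    rcases hsub x hx with h | h
    · simp [h]
    · simp [h]
  have hle : (f.supportᶜ).card ≤ 2 :=
    (Finset.card_le_card hsubset).trans Finset.card_le_two
  have hpos : 0 < (f.supportᶜ).card := by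
    apply Finset.card_pos.mpr
    refine ⟨a, ?_⟩
    rw [Finset.mem_compl, Equiv.Perm.mem_support, not_not]
    exact ha
  have := Nat.le_of_dvd hpos hdvd'
  omega

end Cfsg.Agent.Lib.Lead.FP
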