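import Mathlib

/-!
Project RC (helper48, S1152 + S1157), piece RC-NUM2: the 2-part of `q^3 (q - 1) (q^3 + 1)` for
`q = 3^(2m+1)` is `2^3`.
-/

set_option autoImplicit false

namespace Cfsg.Agent.Lib.Helper48.RC

theorem fact2_mod16 (m : ℕ) : (3 ^ (2 * m + 1)) % 16 = 3 ∨ (3 ^ (2 * m + 1)) % 16 = 11 := by
  induction m with
  | zero => left; norm_num
  | succ k ih =>
    have e : 3 ^ (2 * (k + 1) + 1) = 3 ^ (2 * k + 1) * 9 := by ring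
    rw [e, Nat.mul_mod]
    rcases ih with h | h <;> rw [h] <;> norm_num

theorem fact2 (m : ℕ) : ((3 ^ (2 * m + 1)) ^ 3 * (3 ^ (2 * m + 1) - 1) * ((3 ^ (2 * m + 1)) ^ 3 + 1)).factorization 2 = 3 := by
  have hq := fact2_mod16 m
  generalize 3 ^ (2 * m + 1) = a at hq ⊢
  have hN : (a ^ 3 * (a - 1) * (a ^ 3 + 1)) % 16 = 8 := by
    have h3 : (a ^ 3 % 16 = 11 ∧ (a - 1) % 16 = 2) ∨ (a ^ 3 % 16 = 3 ∧ (a - 1) % 16 = 10) := by
      rcases hq with h | h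
      · left; refine ⟨?_, by omega⟩; rw [Nat.pow_mod, h]
      · right; refine ⟨?_, by omega⟩; rw [Nat.pow_mod, h]
    rcases h3 with ⟨h, h'⟩ | ⟨h, h'⟩
    · rw [Nat.mul_mod, Nat.mul_mod (a ^ 3), Nat.add_mod, h, h']
    · rw [Nat.mul_mod, Nat.mul_mod (a ^ 3), Nat.add_mod, h, h']
  obtain ⟨k, hk, hodd⟩ : ∃ k, a ^ 3 * (a - 1) * (a ^ 3 + 1) = 2 ^ 3 * k ∧ k % 2 = 1 :=
    ⟨(a ^ 3 * (a - 1) * (a ^ 3 + 1)) / 8, by omega, by omega⟩
  have hk0 : k ≠ 0 := by omega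
  have h2k : ¬ 2 ∣ k := by omega
  rw [hk, Nat.factorization_mul (by norm_num) hk0, Nat.factorization_pow]
  simp [Nat.Prime.factorization_self Nat.prime_two, Nat.factorization_eq_zero_of_not_dvd h2k]

end Cfsg.Agent.Lib.Helper48.RC
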