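import Mathlib

set_option autoImplicit false

/-! Piece PAIR of S2086 (helper48's board): a biadditive alternating pairing on a finite field
that is invariant under `(a, b) ↦ (s² a, s² b)` is trivial unless `|K| ∈ {4, 9}`. -/

namespace Cfsg.Agent.Lib.Helper48.Mul

section lead_pair

variable {K : Type*} [Field K]

/-- key step: `x, y ≠ 0` with `y² = x² + 1` and `x⁴ + x² + 1 ≠ 0` force `c = 1`. -/
theorem lead_pair_of_squares {A : Type*} [CommGroup A] (c : K → K → A)
    (hl : ∀ a a' b, c (a + a') b = c a b * c a' b) (hr : ∀ a b b', c a (b + b') = c a b * c a b')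
    (hinv : ∀ s a b, s ≠ 0 → c (s ^ 2 * a) (s ^ 2 * b) = c a b)
    (x y : K) (hx : x ≠ 0) (hy : y ≠ 0) (hxy : y ^ 2 = x ^ 2 + 1) (hne : x ^ 4 + x ^ 2 + 1 ≠ 0) :
    ∀ a b, c a b = 1 := by
  have hx2 : x ^ 2 ≠ 0 := pow_ne_zero 2 hx
  have hy2 : y ^ 2 ≠ 0 := pow_ne_zero 2 hy
  have h1 : ∀ a b, c (x ^ 2 * a) b = c a ((x ^ 2)⁻¹ * b) := by
    intro a b
    have := hinv x a ((x ^ 2)⁻¹ * b) hx
    rwa [mul_inv_cancel_left₀ hx2] at this
  have h2 : ∀ a b, c (y ^ 2 * a) b = c a ((y ^ 2)⁻¹ * b) := by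
    intro a b
    have := hinv y a ((y ^ 2)⁻¹ * b) hy
    rwa [mul_inv_cancel_left₀ hy2] at this
  have h3 : ∀ a b, c a ((y ^ 2)⁻¹ * b) = c a ((x ^ 2)⁻¹ * b + b) := by
    intro a b
    rw [← h2, hxy, add_mul, one_mul, hl, h1, hr]
  have hκ0 : (y ^ 2)⁻¹ - (x ^ 2)⁻¹ - 1 ≠ 0 := by
    intro h0
    apply hne
    have e : ((y ^ 2)⁻¹ - (x ^ 2)⁻¹ - 1) * (x ^ 2 * y ^ 2) = -(x ^ 4 + x ^ 2 + 1) := by
      field_simp
      rw [hxy]
      ring
    rw [h0, zero_mul] at e
    linear_combination e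
  have h4 : ∀ a b, c a (((y ^ 2)⁻¹ - (x ^ 2)⁻¹ - 1) * b) = 1 := by
    intro a b
    have e : (y ^ 2)⁻¹ * b = ((y ^ 2)⁻¹ - (x ^ 2)⁻¹ - 1) * b + ((x ^ 2)⁻¹ * b + b) := by ring
    have h5 := h3 a b
    rw [e, hr] at h5
    exact mul_right_cancel (h5.trans (one_mul _).symm)
  intro a b
  have h6 := h4 a (((y ^ 2)⁻¹ - (x ^ 2)⁻¹ - 1)⁻¹ * b)
  rwa [mul_inv_cancel_left₀ hκ0] at h6

/-- prime fields: the alternating hypothesis suffices. -/
theorem lead_pair_prime [Fintype K] {p : ℕ} (hp : p.Prime) (hq : Fintype.card K = p)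
    {A : Type*} [CommGroup A] (c : K → K → A)
    (hl : ∀ a a' b, c (a + a') b = c a b * c a' b) (hr : ∀ a b b', c a (b + b') = c a b * c a b')
    (halt : ∀ a, c a a = 1) : ∀ a b, c a b = 1 := by
  have hnat : ∀ x : K, ∃ n : ℕ, x = n := by
    intro x
    obtain ⟨z, rfl⟩ := (ZMod.ringEquivOfPrime K hp hq).surjective x
    have : NeZero p := ⟨hp.ne_zero⟩
    refine ⟨z.val, ?_⟩
    conv_lhs => rw [← ZMod.natCast_zmod_val z]
    exact map_natCast (ZMod.ringEquivOfPrime K hp hq) _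
  have c0l : ∀ b, c 0 b = 1 := by
    intro b
    have h := hl 0 0 b
    rw [add_zero] at h
    exact mul_left_cancel (a := c 0 b) (by rw [mul_one]; exact h.symm)
  have c0r : ∀ a, c a 0 = 1 := by
    intro a
    have h := hr a 0 0
    rw [add_zero] at h
    exact mul_left_cancel (a := c a 0) (by rw [mul_one]; exact h.symm)
  have hnl : ∀ (n : ℕ) (b : K), c (n : K) b = c 1 b ^ n := by
    intro n b
    induction n with
    | zero => simp [c0l]
    | succ k ih => rw [Nat.cast_succ, hl, ih, pow_succ]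
  have hnr : ∀ (n : ℕ) (a : K), c a (n : K) = c a 1 ^ n := by
    intro n a
    induction n with
    | zero => simp [c0r]
    | succ k ih => rw [Nat.cast_succ, hr, ih, pow_succ]
  intro a b
  obtain ⟨m, rfl⟩ := hnat a
  obtain ⟨n, rfl⟩ := hnat b
  rw [hnl, hnr, halt, one_pow, one_pow]

theorem lead_exists_eval_ne_zero [Fintype K] (f : Polynomial K) (hf : f ≠ 0)
    (hd : f.natDegree < Fintype.card K) : ∃ r, f.eval r ≠ 0 := by
  apply Polynomial.exists_eval_ne_zero_of_natDegree_lt_card f hf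
  rw [Cardinal.mk_fintype]
  exact_mod_cast hd

open Polynomial in
theorem lead_exists_xy_two [Fintype K] (h2 : (2 : K) = 0) (hq : 8 ≤ Fintype.card K) :
    ∃ x y : K, x ≠ 0 ∧ y ≠ 0 ∧ y ^ 2 = x ^ 2 + 1 ∧ x ^ 4 + x ^ 2 + 1 ≠ 0 := by
  have hdeg : (X ^ 4 - X : K[X]).natDegree = 4 := by compute_degree!
  have hne : (X ^ 4 - X : K[X]) ≠ 0 := by
    intro h0
    rw [h0] at hdeg
    simp at hdeg
  obtain ⟨s, hs⟩ := lead_exists_eval_ne_zero (X ^ 4 - X : K[X]) hne (by rw [hdeg]; omega)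
  simp only [eval_sub, eval_pow, eval_X] at hs
  have hchar : ringChar K = 2 :=
    CharP.ringChar_of_prime_eq_zero Nat.prime_two (by exact_mod_cast h2)
  obtain ⟨r, hr⟩ := FiniteField.isSquare_of_char_two hchar s
  subst hr
  refine ⟨r, r + 1, ?_, ?_, ?_, ?_⟩
  · rintro rfl
    exact hs (by ring)
  · intro h
    apply hs
    have hr1 : r = 1 := by linear_combination h - h2
    rw [hr1]
    ring
  · linear_combination r * h2
  · intro h
    apply hs
    have : (r * r) ^ 4 - r * r = (r ^ 4 - r ^ 2) * (r ^ 4 + r ^ 2 + 1) := by ring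
    rw [this, h, mul_zero]

open Polynomial in
theorem lead_exists_xy_odd [Fintype K] (h2 : (2 : K) ≠ 0) (hq : 14 ≤ Fintype.card K) :
    ∃ x y : K, x ≠ 0 ∧ y ≠ 0 ∧ y ^ 2 = x ^ 2 + 1 ∧ x ^ 4 + x ^ 2 + 1 ≠ 0 := by
  have hdeg : (X ^ 13 + C 13 * X ^ 9 - C 13 * X ^ 5 - X : K[X]).natDegree = 13 := by
    compute_degree!
  have hne : (X ^ 13 + C 13 * X ^ 9 - C 13 * X ^ 5 - X : K[X]) ≠ 0 := by
    intro h0
    rw [h0] at hdeg
    simp at hdeg
  obtain ⟨u, hu⟩ := lead_exists_eval_ne_zero _ hne (by rw [hdeg]; omega)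
  simp only [eval_sub, eval_add, eval_mul, eval_pow, eval_X, eval_C] at hu
  have hfac : u ^ 13 + 13 * u ^ 9 - 13 * u ^ 5 - u = u * (u ^ 4 - 1) * (u ^ 8 + 14 * u ^ 4 + 1) := by
    ring
  rw [hfac] at hu
  have hu0 : u ≠ 0 := fun h => hu (by rw [h]; ring)
  have hu4 : u ^ 4 - 1 ≠ 0 := fun h => hu (by rw [h]; ring)
  have hu8 : u ^ 8 + 14 * u ^ 4 + 1 ≠ 0 := fun h => hu (by rw [h]; ring)
  refine ⟨(u - u⁻¹) / 2, (u + u⁻¹) / 2, ?_, ?_, ?_, ?_⟩
  · intro h
    apply hu4
    have h' : u - u⁻¹ = 0 := by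
      rcases div_eq_zero_iff.mp h with h | h
      · exact h
      · exact absurd h h2
    have h'' : u ^ 2 = 1 := by
      have : u * (u - u⁻¹) = u ^ 2 - 1 := by field_simp
      rw [h', mul_zero] at this
      linear_combination -this
    have : u ^ 4 = (u ^ 2) ^ 2 := by ring
    rw [this, h'']
    ring
  · intro h
    apply hu4
    have h' : u + u⁻¹ = 0 := by
      rcases div_eq_zero_iff.mp h with h | h
      · exact h
      · exact absurd h h2
    have h'' : u ^ 2 = -1 := by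
      have : u * (u + u⁻¹) = u ^ 2 + 1 := by field_simp
      rw [h', mul_zero] at this
      linear_combination -this
    have : u ^ 4 = (u ^ 2) ^ 2 := by ring
    rw [this, h'']
    ring
  · field_simp
    ring
  · intro h
    apply hu8
    have key : (((u - u⁻¹) / 2) ^ 4 + ((u - u⁻¹) / 2) ^ 2 + 1) * (16 * u ^ 4)
        = u ^ 8 + 14 * u ^ 4 + 1 := by
      field_simp
      ring
    rw [← key, h, zero_mul]

/-- piece PAIR -/
theorem pairing_sq_trivial [Fintype K] (h4 : Fintype.card K ≠ 4) (h9 : Fintype.card K ≠ 9)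
    {A : Type*} [CommGroup A] (c : K → K → A)
    (hl : ∀ a a' b, c (a + a') b = c a b * c a' b) (hr : ∀ a b b', c a (b + b') = c a b * c a b')
    (halt : ∀ a, c a a = 1) (hinv : ∀ s a b, s ≠ 0 → c (s ^ 2 * a) (s ^ 2 * b) = c a b) :
    ∀ a b, c a b = 1 := by
  classical
  obtain ⟨p, hchar⟩ := CharP.exists K
  obtain ⟨n, hp, hq⟩ := FiniteField.card K p
  by_cases hn1 : (n : ℕ) = 1
  · rw [hn1, pow_one] at hq
    exact lead_pair_prime hp hq c hl hr halt
  · have hn2 : 2 ≤ (n : ℕ) := by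
      have := n.pos
      omega
    by_cases h2 : (2 : K) = 0
    · have hp2 : p = 2 := by
        have h2' : ((2 : ℕ) : K) = 0 := by exact_mod_cast h2
        have hd := (CharP.cast_eq_zero_iff K p 2).mp h2'
        exact (Nat.prime_dvd_prime_iff_eq hp Nat.prime_two).mp hd
      subst hp2
      have hn3 : 3 ≤ (n : ℕ) := by
        rcases Nat.lt_or_ge (n : ℕ) 3 with h | h
        · exfalso
          have hn : (n : ℕ) = 2 := by omega
          rw [hn] at hq
          exact h4 (by rw [hq]; norm_num)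
        · exact h
      have hq8 : 8 ≤ Fintype.card K := by
        rw [hq]
        calc 8 = 2 ^ 3 := by norm_num
          _ ≤ 2 ^ (n : ℕ) := Nat.pow_le_pow_right (by norm_num) hn3
      obtain ⟨x, y, hx, hy, hxy, hne⟩ := lead_exists_xy_two h2 hq8
      exact lead_pair_of_squares c hl hr hinv x y hx hy hxy hne
    · have hp3 : 3 ≤ p := by
        have := hp.two_le
        rcases Nat.lt_or_ge p 3 with h | h
        · exfalso
          have hp2 : p = 2 := by omega
          subst hp2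
          exact h2 (by exact_mod_cast CharP.cast_eq_zero K 2)
        · exact h
      have hq14 : 14 ≤ Fintype.card K := by
        rw [hq]
        rcases Nat.lt_or_ge p 4 with h | h
        · have hp3' : p = 3 := by omega
          subst hp3'
          have hn3 : 3 ≤ (n : ℕ) := by
            rcases Nat.lt_or_ge (n : ℕ) 3 with h' | h'
            · exfalso
              have hn : (n : ℕ) = 2 := by omega
              rw [hn] at hq
              exact h9 (by rw [hq]; norm_num)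
            · exact h'
          calc 14 ≤ 3 ^ 3 := by norm_num
            _ ≤ 3 ^ (n : ℕ) := Nat.pow_le_pow_right (by norm_num) hn3
        · calc 14 ≤ 4 ^ 2 := by norm_num
            _ ≤ p ^ 2 := Nat.pow_le_pow_left h 2
            _ ≤ p ^ (n : ℕ) := Nat.pow_le_pow_right (by omega) hn2
      obtain ⟨x, y, hx, hy, hxy, hne⟩ := lead_exists_xy_odd h2 hq14
      exact lead_pair_of_squares c hl hr hinv x y hx hy hxy hne

end lead_pair

end Cfsg.Agent.Lib.Helper48.Mul
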